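import Cfsg.Agent.LargeExtra.Perp
import Cfsg.Agent.LargeExtra.KillSiegel

/-!
# Commuting conjugates of `z` in different components (helper71, after helper990's LEMMA CC)

`Two Qr Qs r s P`: `r, s` commuting elements of a class `P`, `Qr, Qs` their large extraspecial subgroups,
`Qr ∩ Qs ∩ P = ∅`.  `h` = action of `s` on `V = Qr / ⟨r⟩`, `W = [V, h]`, `F = C_V(h)`, `Xt = C_{Qr}(s) / ⟨r⟩`,
`Dt` = image of `Qr ∩ Qs`.
-/

set_option autoImplicit false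

namespace Cfsg.Agent.LargeExtra.CC

open Cfsg.Agent.Co2Type.Quad Cfsg.Agent.LargeExtra.Base Cfsg.Agent.LargeExtra.Local
open Cfsg.Agent.LargeExtra.KillSiegel

structure Two {G : Type*} [Group G] (Qr Qs : Subgroup G) (r s : G) (P : G → Prop) : Prop where
  lr : Large Qr r
  ls : Large Qs s
  comm : s * r = r * s
  hr : r ∉ Qs
  hs : s ∉ Qr
  conj : ∀ g x, P x → P (g * x * g⁻¹)
  Pr : P r
  Ps : P s
  none : ∀ x ∈ Qr, x ∈ Qs → ¬ P x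

namespace Two

variable {G : Type*} [Group G] {Qr Qs : Subgroup G} {r s : G} {P : G → Prop}

theorem symm (T : Two Qr Qs r s P) : Two Qs Qr s r P where
  lr := T.ls
  ls := T.lr
  comm := T.comm.symm
  hr := T.hs
  hs := T.hr
  conj := T.conj
  Pr := T.Ps
  Ps := T.Pr
  none := fun x h1 h2 => T.none x h2 h1

/-! ### the three elementwise facts -/

theorem key2 (T : Two Qr Qs r s P) {x d : G} (hx : x ∈ Qr) (hd : d ∈ Qr) (hd' : d ∈ Qs)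
    (e : x * s * x⁻¹ = d * s) : d = 1 := by
  by_contra h1
  have h2 : d ≠ s := fun h => T.hs (h ▸ hd)
  obtain ⟨y, hy, hyd⟩ := exists_not_comm T.ls hd' h1 h2
  have h3 : P (d * s) := by rw [← e]; exact T.conj x s T.Ps
  have h4 : d * s = y * d * y⁻¹ := by
    rw [hyd, mul_assoc (d * y), ← (T.ls.commz hy).inv_left.eq]; group
  have h5 : P d := by
    have h6 := T.conj y⁻¹ _ h3
    rw [h4] at h6
    have : y⁻¹ * (y * d * y⁻¹) * y⁻¹⁻¹ = d := by group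
    rwa [this] at h6
  exact T.none d hd hd' h5

theorem conj_r (T : Two Qr Qs r s P) {x : G} (hx : x ∈ Qr) : x * r * x⁻¹ = r := by
  rw [T.lr.comm_z x hx]; group

theorem key3 (T : Two Qr Qs r s P) {x x0 d : G} (hx : x ∈ Qr) (hx0 : x0 ∈ Qr) (hd : d ∈ Qr)
    (hd' : d ∈ Qs) (e : x * s * x⁻¹ = d * r * s) (e0 : x0 * s * x0⁻¹ = r * s)
    (hc : x0 * d = d * x0) : d = 1 := by
  apply T.key2 (Qr.mul_mem hx0 hx) hd hd'
  calc x0 * x * s * (x0 * x)⁻¹ = x0 * (x * s * x⁻¹) * x0⁻¹ := by group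
    _ = (x0 * d * x0⁻¹) * (x0 * r * x0⁻¹) * (x0 * s * x0⁻¹) := by rw [e]; group
    _ = d * (r * r) * s := by
      rw [T.conj_r hx0, e0, hc]; group
    _ = d * s := by rw [T.lr.z_sq, mul_one]

theorem key3' (T : Two Qr Qs r s P) {x x' d d' : G} (hx : x ∈ Qr) (hx' : x' ∈ Qr) (hd : d ∈ Qr)
    (hd1 : d ∈ Qs) (hd' : d' ∈ Qr) (hd1' : d' ∈ Qs) (e : x * s * x⁻¹ = d * r * s)
    (e' : x' * s * x'⁻¹ = d' * r * s) (hc : x * d' = d' * x) : d' * d = 1 := by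
  apply T.key2 (Qr.mul_mem hx hx') (Qr.mul_mem hd' hd) (Qs.mul_mem hd1' hd1)
  calc x * x' * s * (x * x')⁻¹ = x * (x' * s * x'⁻¹) * x⁻¹ := by group
    _ = (x * d' * x⁻¹) * (x * r * x⁻¹) * (x * s * x⁻¹) := by rw [e']; group
    _ = d' * (r * d) * r * s := by
      rw [T.conj_r hx, e, hc]; group
    _ = d' * d * (r * r) * s := by rw [← T.lr.comm_z d hd]; group
    _ = d' * d * s := by rw [T.lr.z_sq, mul_one]

theorem key3'' (T : Two Qr Qs r s P) {x x' : G} (hx : x ∈ Qr)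
    (e : x * s * x⁻¹ = r * s) (e' : x' * s * x'⁻¹ = r * s) : x * x' * s = s * (x * x') := by
  have : x * x' * s * (x * x')⁻¹ = s := by
    calc x * x' * s * (x * x')⁻¹ = x * (x' * s * x'⁻¹) * x⁻¹ := by group
      _ = (x * r * x⁻¹) * (x * s * x⁻¹) := by rw [e']; group
      _ = (r * r) * s := by rw [T.conj_r hx, e]; group
      _ = s := by rw [T.lr.z_sq, one_mul]
  rwa [mul_inv_eq_iff_eq_mul] at this

/-! ### the linear maps -/

/-- `s` on `V` -/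
noncomputable def h (T : Two Qr Qs r s P) : T.lr.V ≃ₗ[ZMod 2] T.lr.V :=
  T.lr.act ⟨s, Subgroup.mem_centralizer_singleton_iff.2 T.comm⟩

/-- an element of `C(r)` on `V` -/
noncomputable def ac (T : Two Qr Qs r s P) {y : G} (hy : y * r = r * y) :
    T.lr.V ≃ₗ[ZMod 2] T.lr.V :=
  T.lr.act ⟨y, Subgroup.mem_centralizer_singleton_iff.2 hy⟩

theorem ac_pr (T : Two Qr Qs r s P) {y : G} (hy : y * r = r * y) (x : Qr) :
    T.ac hy (T.lr.pr x) = T.lr.pr ⟨y * x * y⁻¹, T.lr.conj_mem y hy x x.2⟩ := T.lr.act_pr _ x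

theorem h_pr (T : Two Qr Qs r s P) (x : Qr) :
    T.h (T.lr.pr x) = T.lr.pr ⟨s * x * s⁻¹, T.lr.conj_mem s T.comm x x.2⟩ := T.lr.act_pr _ x

theorem b_ac (T : Two Qr Qs r s P) {y : G} (hy : y * r = r * y) (v w : T.lr.V) :
    T.lr.b (T.ac hy v) (T.ac hy w) = T.lr.b v w := T.lr.b_act _ v w

theorem b_h' (T : Two Qr Qs r s P) (v w : T.lr.V) :
    T.lr.b (T.h v) (T.h w) = T.lr.b v w := T.lr.b_act _ v w

theorem q_h (T : Two Qr Qs r s P) (v : T.lr.V) : T.lr.q (T.h v) = T.lr.q v := T.lr.q_act _ v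

theorem s_inv (T : Two Qr Qs r s P) : s⁻¹ = s := T.ls.z_inv

theorem hh (T : Two Qr Qs r s P) (v : T.lr.V) : T.h (T.h v) = v := by
  obtain ⟨x, rfl⟩ := T.lr.pr_surjective v
  rw [T.h_pr, T.h_pr]
  congr 1
  apply Subtype.ext
  show s * (s * (x : G) * s⁻¹) * s⁻¹ = x
  rw [T.s_inv]
  calc s * (s * (x : G) * s) * s = (s * s) * x * (s * s) := by group
    _ = x := by rw [T.ls.z_sq, one_mul, mul_one]

theorem b_h (T : Two Qr Qs r s P) (v w : T.lr.V) :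
    T.lr.b (T.h v) w = T.lr.b v (T.h w) := by
  have := T.b_h' v (T.h w)
  rwa [T.hh] at this

/-- `F = C_V(h)` -/
noncomputable def F (T : Two Qr Qs r s P) : Submodule (ZMod 2) T.lr.V where
  carrier := {v | T.h v = v}
  zero_mem' := map_zero _
  add_mem' := by
    intro v w hv hw
    show T.h (v + w) = v + w
    rw [map_add, hv, hw]
  smul_mem' := by
    intro c v hv
    show T.h (c • v) = c • v
    rw [map_smul, hv]

/-- `W = [V, h]` -/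
noncomputable def W (T : Two Qr Qs r s P) : Submodule (ZMod 2) T.lr.V where
  carrier := {w | ∃ u, T.h u + u = w}
  zero_mem' := ⟨0, by rw [map_zero, add_zero]⟩
  add_mem' := by
    rintro _ _ ⟨u, rfl⟩ ⟨v, rfl⟩
    exact ⟨u + v, by rw [map_add]; abel⟩
  smul_mem' := by
    rintro c _ ⟨u, rfl⟩
    exact ⟨c • u, by rw [map_smul, smul_add]⟩

theorem mem_F (T : Two Qr Qs r s P) {v : T.lr.V} : v ∈ T.F ↔ T.h v = v := Iff.rfl

theorem mem_W (T : Two Qr Qs r s P) {w : T.lr.V} : w ∈ T.W ↔ ∃ u, T.h u + u = w := Iff.rfl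

theorem add_eq_zero (T : Two Qr Qs r s P) {v w : T.lr.V} : v + w = 0 ↔ v = w := by
  rw [add_eq_zero_iff_eq_neg, T.lr.neg_eq]

theorem W_le_F (T : Two Qr Qs r s P) : T.W ≤ T.F := by
  rintro _ ⟨u, rfl⟩
  rw [mem_F, map_add, T.hh, add_comm]

theorem b_W_F (T : Two Qr Qs r s P) {w v : T.lr.V} (hw : w ∈ T.W) (hv : v ∈ T.F) :
    T.lr.b w v = 0 := by
  obtain ⟨u, rfl⟩ := hw
  rw [map_add, LinearMap.add_apply, T.b_h, T.mem_F.1 hv]
  exact CharTwo.add_self_eq_zero _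

theorem mem_F_of (T : Two Qr Qs r s P) {v : T.lr.V} (hv : ∀ w ∈ T.W, T.lr.b w v = 0) : v ∈ T.F := by
  rw [mem_F, ← T.add_eq_zero]
  apply T.lr.b_nondeg
  intro u
  rw [T.lr.b_comm, map_add, ← T.b_h, ← LinearMap.add_apply, ← map_add]
  exact hv _ ⟨u, rfl⟩

theorem mem_W_of [Finite G] (T : Two Qr Qs r s P) {w : T.lr.V} (hw : ∀ v ∈ T.F, T.lr.b v w = 0) :
    w ∈ T.W := by
  apply Perp.mem_of_perp T.lr
  intro v hv
  exact hw v (T.mem_F_of hv)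

/-- the orthogonal space of `F` is `W` -/
theorem perp_F [Finite G] (T : Two Qr Qs r s P) : T.lr.b.orthogonal T.F = T.W := by
  ext w
  rw [Perp.mem_perp]
  constructor
  · exact T.mem_W_of
  · intro hw v hv
    rw [T.lr.b_comm]
    exact T.b_W_F hw hv

theorem card_W_F [Finite G] (T : Two Qr Qs r s P) :
    Nat.card T.F * Nat.card T.W = Nat.card T.lr.V := by
  rw [← T.perp_F]
  exact Perp.card_perp T.lr T.F

theorem W_ne (T : Two Qr Qs r s P) [Finite G] : ∃ u, T.h u ≠ u := by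
  by_contra hcon
  push Not at hcon
  apply T.hs
  have : (T.lr.act ⟨s, Subgroup.mem_centralizer_singleton_iff.2 T.comm⟩) = 1 := by
    ext v
    exact hcon v
  exact T.lr.mem_of_act _ this

/-! ### commutators of elements of `Qr` with `s` -/

theorem comm_mem (T : Two Qr Qs r s P) {x : G} (hx : x ∈ Qr) : x * s * x⁻¹ * s⁻¹ ∈ Qr := by
  have h1 := T.lr.conj_mem s T.comm x⁻¹ (Qr.inv_mem hx)
  have e : x * s * x⁻¹ * s⁻¹ = x * (s * x⁻¹ * s⁻¹) := by group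
  rw [e]
  exact Qr.mul_mem hx h1

theorem pr_comm (T : Two Qr Qs r s P) (x : Qr) :
    T.lr.pr ⟨x * s * (x : G)⁻¹ * s⁻¹, T.comm_mem x.2⟩ = T.h (T.lr.pr x) + T.lr.pr x := by
  have e : (⟨x * s * (x : G)⁻¹ * s⁻¹, T.comm_mem x.2⟩ : Qr) =
      x * ⟨s * ((x⁻¹ : Qr) : G) * s⁻¹, T.lr.conj_mem s T.comm _ (x⁻¹ : Qr).2⟩ := by
    apply Subtype.ext
    show (x : G) * s * (x : G)⁻¹ * s⁻¹ = x * (s * (x : G)⁻¹ * s⁻¹)
    group
  rw [e, T.lr.pr_mul, ← T.h_pr, T.lr.pr_inv, map_neg, T.lr.neg_eq, add_comm]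

/-- if `h u + u` is the image of `d` then `x s x⁻¹ = d s` or `d r s` -/
theorem comm_cases (T : Two Qr Qs r s P) (x d : Qr)
    (e : T.h (T.lr.pr x) + T.lr.pr x = T.lr.pr d) :
    x * s * (x : G)⁻¹ = d * s ∨ x * s * (x : G)⁻¹ = d * r * s := by
  rw [← T.pr_comm, T.lr.pr_eq_pr] at e
  have e' : (x : G) * s * (x : G)⁻¹ * s⁻¹ = d ∨ (x : G) * s * (x : G)⁻¹ * s⁻¹ = d * r := e
  rcases e' with h1 | h1
  · left; rw [← h1]; group
  · right; rw [← h1]; group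

/-- `C_{Qr}(s) / ⟨r⟩` -/
def Xt (T : Two Qr Qs r s P) : Submodule (ZMod 2) T.lr.V :=
  Local.sub T.lr (Subgroup.centralizer ({s} : Set G))

/-- the image of `Qr ∩ Qs` -/
def Dt (T : Two Qr Qs r s P) : Submodule (ZMod 2) T.lr.V := Local.sub T.lr Qs

theorem pr_mem_Xt (T : Two Qr Qs r s P) (x : Qr) : T.lr.pr x ∈ T.Xt ↔ (x : G) * s = s * x := by
  rw [Xt, Local.pr_mem_sub T.lr (Subgroup.mem_centralizer_singleton_iff.2 T.comm.symm)]
  exact Subgroup.mem_centralizer_singleton_iff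

theorem Xt_le_F (T : Two Qr Qs r s P) : T.Xt ≤ T.F := by
  rintro v hv
  obtain ⟨x, rfl⟩ := T.lr.pr_surjective v
  rw [T.pr_mem_Xt] at hv
  rw [mem_F, T.h_pr]
  congr 1
  apply Subtype.ext
  show s * (x : G) * s⁻¹ = x
  rw [← hv]; group

theorem Dt_le_Xt (T : Two Qr Qs r s P) : T.Dt ≤ T.Xt := by
  rintro v ⟨x, hx, rfl⟩
  rw [T.pr_mem_Xt]
  exact T.ls.comm_z x hx

/-- `[D, X_r] = 1` -/
theorem b_Dt_Xt (T : Two Qr Qs r s P) {d v : T.lr.V} (hd : d ∈ T.Dt) (hv : v ∈ T.Xt) :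
    T.lr.b d v = 0 := by
  obtain ⟨d, hd, rfl⟩ := hd
  obtain ⟨x, rfl⟩ := T.lr.pr_surjective v
  rw [T.pr_mem_Xt] at hv
  rw [T.lr.b_pr]
  rcases T.lr.comm d d.2 x x.2 with h1 | h1
  · exact h1
  · exfalso
    apply T.hr
    -- `x d x⁻¹ = d r`
    have h2 := T.ls.conj_mem x hv d hd
    have h3 : (x : G) * d * (x : G)⁻¹ = d * r⁻¹ := by
      have h4 : (x : G) * d = d * x * r⁻¹ := by rw [h1]; group
      rw [h4, mul_assoc (d * (x : G)), ← (T.lr.commz x.2).inv_left.inv_right.eq]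
      group
    rw [h3] at h2
    have h5 := Qs.mul_mem (Qs.inv_mem hd) h2
    rw [inv_mul_cancel_left] at h5
    exact Qs.inv_mem_iff.1 h5

/-- `|F : Xt| ≤ 2` -/
theorem add_mem_Xt (T : Two Qr Qs r s P) {v w : T.lr.V} (hv : v ∈ T.F) (hw : w ∈ T.F)
    (hv' : v ∉ T.Xt) (hw' : w ∉ T.Xt) : v + w ∈ T.Xt := by
  obtain ⟨x, rfl⟩ := T.lr.pr_surjective v
  obtain ⟨y, rfl⟩ := T.lr.pr_surjective w
  have key : ∀ x : Qr, T.lr.pr x ∈ T.F → T.lr.pr x ∉ T.Xt → (x : G) * s * (x : G)⁻¹ = r * s := by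
    intro x h1 h2
    rcases T.comm_cases x 1 (by rw [T.mem_F.1 h1, T.lr.add_self, T.lr.pr_one]) with h3 | h3
    · exfalso
      apply h2
      rw [T.pr_mem_Xt]
      have h4 : (x : G) * s * (x : G)⁻¹ = s := by rw [h3]; exact one_mul _
      rwa [mul_inv_eq_iff_eq_mul] at h4
    · rw [h3]
      show 1 * r * s = r * s
      rw [one_mul]
  rw [← T.lr.pr_mul, T.pr_mem_Xt]
  exact T.key3'' x.2 (key x hv hv') (key y hw hw')

/-- (3) a nonzero element of `D̃ ∩ W` -/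
theorem one_of_D (T : Two Qr Qs r s P) {x d : Qr} (hd : (d : G) ∈ Qs) (hd1 : T.lr.pr d ≠ 0)
    (e : T.h (T.lr.pr x) + T.lr.pr x = T.lr.pr d) : x * s * (x : G)⁻¹ = d * r * s := by
  rcases T.comm_cases x d e with h1 | h1
  · exfalso
    apply hd1
    rw [T.lr.pr_eq_zero]
    left
    exact T.key2 x.2 d.2 hd h1
  · exact h1

theorem F_le_Xt (T : Two Qr Qs r s P) {δ : T.lr.V} (hδ : δ ∈ T.Dt) (hW : δ ∈ T.W) (h0 : δ ≠ 0) :
    T.F ≤ T.Xt := by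
  intro v hv
  obtain ⟨d, hd, rfl⟩ := hδ
  obtain ⟨u, hu⟩ := hW
  obtain ⟨x, rfl⟩ := T.lr.pr_surjective u
  obtain ⟨x0, rfl⟩ := T.lr.pr_surjective v
  have e := T.one_of_D hd h0 hu
  by_contra hcon
  rcases T.comm_cases x0 1 (by rw [T.mem_F.1 hv, T.lr.add_self, T.lr.pr_one]) with h3 | h3
  · apply hcon
    rw [T.pr_mem_Xt]
    have h4 : (x0 : G) * s * (x0 : G)⁻¹ = s := by rw [h3]; exact one_mul _
    rwa [mul_inv_eq_iff_eq_mul] at h4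
  · have h4 : (x0 : G) * s * (x0 : G)⁻¹ = r * s := by
      rw [h3]
      show 1 * r * s = r * s
      rw [one_mul]
    apply h0
    rw [T.lr.pr_eq_zero]
    left
    apply T.key3 x.2 x0.2 d.2 hd e h4
    rw [← T.lr.b_pr, T.lr.b_comm]
    exact T.b_W_F ⟨_, hu⟩ hv

theorem b_one (T : Two Qr Qs r s P) {u u' δ δ' : T.lr.V} (hδ : δ ∈ T.Dt) (hδ' : δ' ∈ T.Dt)
    (hu : T.h u + u = δ) (hu' : T.h u' + u' = δ') (h0 : δ ≠ 0) (h0' : δ' ≠ 0) (hne : δ ≠ δ') :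
    T.lr.b u δ' = 1 := by
  obtain ⟨d, hd, rfl⟩ := hδ
  obtain ⟨d', hd', rfl⟩ := hδ'
  obtain ⟨x, rfl⟩ := T.lr.pr_surjective u
  obtain ⟨x', rfl⟩ := T.lr.pr_surjective u'
  have e := T.one_of_D hd h0 hu
  have e' := T.one_of_D hd' h0' hu'
  rcases zmod2 (T.lr.b (T.lr.pr x) (T.lr.pr d')) with h1 | h1
  · exfalso
    apply hne
    have h2 := T.key3' x.2 x'.2 d.2 hd d'.2 hd' e e' ((T.lr.b_pr x d').1 h1)
    have h3 : T.lr.pr (d' * d) = 0 := T.lr.pr_eq_zero.2 (Or.inl h2)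
    rw [T.lr.pr_mul, T.add_eq_zero] at h3
    exact h3.symm
  · exact h1

/-- `q(w) = 0` for `w ∈ W ∩ X̃` -/
theorem q_W (T : Two Qr Qs r s P) {w : T.lr.V} (hw : w ∈ T.W) (hX : w ∈ T.Xt) : T.lr.q w = 0 := by
  obtain ⟨u, rfl⟩ := hw
  obtain ⟨x, rfl⟩ := T.lr.pr_surjective u
  rw [← T.pr_comm] at hX ⊢
  rw [T.pr_mem_Xt] at hX
  rw [T.lr.q_eq_zero]
  have hX' : (x * s * (x : G)⁻¹ * s⁻¹) * s = s * (x * s * (x : G)⁻¹ * s⁻¹) := hX
  show (x * s * (x : G)⁻¹ * s⁻¹) * (x * s * (x : G)⁻¹ * s⁻¹) = 1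
  have e1 : s * (x * s * (x : G)⁻¹ * s⁻¹) * s⁻¹ = (x * s * (x : G)⁻¹ * s⁻¹)⁻¹ := by
    have hs := T.s_inv
    calc s * (x * s * (x : G)⁻¹ * s⁻¹) * s⁻¹ = s * x * s * (x : G)⁻¹ * (s⁻¹ * s⁻¹) := by group
      _ = s * x * s * (x : G)⁻¹ := by rw [hs, T.ls.z_sq, mul_one]
      _ = s * x * s⁻¹ * (x : G)⁻¹ := by rw [hs]
      _ = (x * s * (x : G)⁻¹ * s⁻¹)⁻¹ := by group
  rw [← hX'] at e1
  have e2 : (x * s * (x : G)⁻¹ * s⁻¹) * s * s⁻¹ = x * s * (x : G)⁻¹ * s⁻¹ := by group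
  rw [e2] at e1
  nth_rewrite 1 [e1]
  rw [inv_mul_cancel]

/-- `q` vanishes on `W` exactly if `W ≤ X̃` -/
theorem mem_Xt_of_q (T : Two Qr Qs r s P) {w : T.lr.V} (hw : w ∈ T.W) (hq : T.lr.q w = 0) :
    w ∈ T.Xt := by
  obtain ⟨u, rfl⟩ := hw
  obtain ⟨x, rfl⟩ := T.lr.pr_surjective u
  rw [← T.pr_comm] at hq ⊢
  rw [T.lr.q_eq_zero] at hq
  rw [T.pr_mem_Xt]
  have hq' : (x * s * (x : G)⁻¹ * s⁻¹) * (x * s * (x : G)⁻¹ * s⁻¹) = 1 := hq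
  show (x * s * (x : G)⁻¹ * s⁻¹) * s = s * (x * s * (x : G)⁻¹ * s⁻¹)
  have e1 : s * (x * s * (x : G)⁻¹ * s⁻¹) * s⁻¹ = (x * s * (x : G)⁻¹ * s⁻¹)⁻¹ := by
    have hs := T.s_inv
    calc s * (x * s * (x : G)⁻¹ * s⁻¹) * s⁻¹ = s * x * s * (x : G)⁻¹ * (s⁻¹ * s⁻¹) := by group
      _ = s * x * s * (x : G)⁻¹ := by rw [hs, T.ls.z_sq, mul_one]
      _ = s * x * s⁻¹ * (x : G)⁻¹ := by rw [hs]
      _ = (x * s * (x : G)⁻¹ * s⁻¹)⁻¹ := by group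
  rw [inv_eq_of_mul_eq_one_left hq', mul_inv_eq_iff_eq_mul] at e1
  exact e1.symm

/-! ### the action of `X_s = C_{Qs}(r)` -/

theorem ac_Dt (T : Two Qr Qs r s P) {y : G} (hy : y ∈ Qs) (hyr : y * r = r * y) {v : T.lr.V}
    (hv : v ∈ T.Dt) : T.ac hyr v = v := by
  obtain ⟨d, hd, rfl⟩ := hv
  rw [T.ac_pr]
  congr 1
  apply Subtype.ext
  show y * (d : G) * y⁻¹ = d
  rcases T.ls.comm y hy d hd with h1 | h1
  · rw [h1]; group
  · exfalso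
    apply T.hs
    have h2 := T.lr.conj_mem y hyr d d.2
    have h3 : y * (d : G) * y⁻¹ = d * s := by
      rw [h1, mul_assoc ((d : G) * y), ← (T.ls.commz hy).inv_left.eq]; group
    rw [h3] at h2
    have h4 := Qr.mul_mem (Qr.inv_mem d.2) h2
    rwa [inv_mul_cancel_left] at h4

theorem ac_Xt (T : Two Qr Qs r s P) {y : G} (hy : y ∈ Qs) (hyr : y * r = r * y) {v : T.lr.V}
    (hv : v ∈ T.Xt) : T.ac hyr v + v ∈ T.Dt := by
  obtain ⟨x, rfl⟩ := T.lr.pr_surjective v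
  rw [T.pr_mem_Xt] at hv
  rw [T.ac_pr]
  refine ⟨⟨y * x * y⁻¹, T.lr.conj_mem y hyr x x.2⟩ * x⁻¹, ?_, ?_⟩
  · show y * (x : G) * y⁻¹ * (x : G)⁻¹ ∈ Qs
    have h1 := T.ls.conj_mem x hv y⁻¹ (Qs.inv_mem hy)
    have e : y * (x : G) * y⁻¹ * (x : G)⁻¹ = y * (x * y⁻¹ * (x : G)⁻¹) := by group
    rw [e]
    exact Qs.mul_mem hy h1
  · rw [T.lr.pr_mul, T.lr.pr_inv, T.lr.neg_eq]

theorem ac_mul (T : Two Qr Qs r s P) {y y' : G} (hy : y * r = r * y) (hy' : y' * r = r * y')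
    (h : y * y' * r = r * (y * y')) (v : T.lr.V) : T.ac h v = T.ac hy (T.ac hy' v) := by
  have e : (⟨y * y', Subgroup.mem_centralizer_singleton_iff.2 h⟩ :
      Subgroup.centralizer ({r} : Set G)) = ⟨y, Subgroup.mem_centralizer_singleton_iff.2 hy⟩ *
        ⟨y', Subgroup.mem_centralizer_singleton_iff.2 hy'⟩ := Subtype.ext rfl
  rw [ac, e, map_mul]
  rfl

/-- two elements of `X_s` that do not commute -/
theorem ac_ac (T : Two Qr Qs r s P) {y y' : G} (hy : y ∈ Qs) (hy' : y' ∈ Qs) (hyr : y * r = r * y)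
    (hyr' : y' * r = r * y') (hne : y * y' ≠ y' * y) (v : T.lr.V) :
    T.ac hyr (T.ac hyr' v) = T.ac hyr' (T.ac hyr (T.h v)) := by
  have h1 : y * y' = y' * y * s := (T.ls.comm y hy y' hy').resolve_left hne
  obtain ⟨x, rfl⟩ := T.lr.pr_surjective v
  rw [T.h_pr, T.ac_pr, T.ac_pr, T.ac_pr, T.ac_pr]
  congr 1
  apply Subtype.ext
  show y * (y' * (x : G) * y'⁻¹) * y⁻¹ = y' * (y * (s * x * s⁻¹) * y⁻¹) * y'⁻¹
  calc y * (y' * (x : G) * y'⁻¹) * y⁻¹ = (y * y') * x * (y * y')⁻¹ := by group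
    _ = y' * (y * (s * x * s⁻¹) * y⁻¹) * y'⁻¹ := by rw [h1]; group

/-- `[D̃^⊥, y] ≤ X̃^⊥` -/
theorem ac_perp (T : Two Qr Qs r s P) {y : G} (hy : y ∈ Qs) (hyr : y * r = r * y) {u v : T.lr.V}
    (hu : ∀ d ∈ T.Dt, T.lr.b u d = 0) (hv : v ∈ T.Xt) : T.lr.b (T.ac hyr u + u) v = 0 := by
  have h1 := T.ac_Xt hy hyr hv
  have h2 : T.lr.b (T.ac hyr u) (T.ac hyr v) = T.lr.b u v := T.b_ac hyr u v
  -- `ac v = v + δ`, `ac δ = δ`
  have h3 : T.lr.b (T.ac hyr u) (T.ac hyr (T.ac hyr v + v)) = T.lr.b u (T.ac hyr v + v) :=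
    T.b_ac hyr _ _
  rw [T.ac_Dt hy hyr h1, hu _ h1] at h3
  rw [map_add, h2] at h3
  rw [map_add, LinearMap.add_apply, add_comm]
  exact h3

end Two

end Cfsg.Agent.LargeExtra.CC
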