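import Cfsg.Agent.LargeExtra.CC.Main

/-!
# `|Qr ∩ Qs| ≤ 4` for commuting conjugates in different components (helper862, after helper990's LEMMA CC (3))
-/

set_option autoImplicit false

namespace Cfsg.Agent.LargeExtra.CC.Dt

open Cfsg.Agent.Co2Type.Quad Cfsg.Agent.LargeExtra.Base Cfsg.Agent.LargeExtra.Local
open Cfsg.Agent.LargeExtra.CC

variable {G : Type*} [Group G] {Qr Qs : Subgroup G} {r s : G} {P : G → Prop}

theorem zmod2' (a : ZMod 2) : a = 0 ∨ a = 1 := by revert a; decide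

/-- if `D~` meets `W` nontrivially then `D~ ≤ W` -/
theorem Dt_le_W [Finite G] (T : Two Qr Qs r s P) {δ : T.lr.V} (hδ : δ ∈ T.Dt) (hW : δ ∈ T.W) (h0 : δ ≠ 0) :
    T.Dt ≤ T.W := by
  intro d hd
  apply T.mem_W_of
  intro v hv
  rw [T.lr.b_comm]
  exact T.b_Dt_Xt hd (T.F_le_Xt hδ hW h0 hv)

/-- if `D~` meets `W` nontrivially then `q = 0` on `W` -/
theorem q_W_of_Dt [Finite G] (T : Two Qr Qs r s P) {δ : T.lr.V} (hδ : δ ∈ T.Dt) (hW : δ ∈ T.W) (h0 : δ ≠ 0) :
    ∀ w ∈ T.W, T.lr.q w = 0 :=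
  fun _ hw => T.q_W hw (T.F_le_Xt hδ hW h0 (T.W_le_F hw))

/-- the nonzero elements of `D~` when `D~ ∩ W = 0` -/
theorem Dt_eq_of [Finite G] (T : Two Qr Qs r s P) (hn : ∀ δ ∈ T.Dt, δ ∈ T.W → δ = 0) {d d' : T.lr.V}
    (hd : d ∈ T.Dt) (hd' : d' ∈ T.Dt) (h0 : d ≠ 0) (h0' : d' ≠ 0) : d = d' := by
  -- `d + d'` is orthogonal to `F`
  have h1 : d + d' ∈ T.W := by
    apply T.mem_W_of
    intro v hv
    rw [T.lr.b_comm]
    by_cases hvX : v ∈ T.Xt
    · exact T.b_Dt_Xt (add_mem hd hd') hvX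
    · have key : ∀ e ∈ T.Dt, e ≠ 0 → T.lr.b e v = 1 := by
        intro e he he0
        rcases zmod2' (T.lr.b e v) with h2 | h2
        · exfalso
          apply he0
          apply hn e he
          apply T.mem_W_of
          intro w hw
          rw [T.lr.b_comm]
          by_cases hwX : w ∈ T.Xt
          · exact T.b_Dt_Xt he hwX
          · have h3 : v + w ∈ T.Xt := T.add_mem_Xt hv hw hvX hwX
            have h4 := T.b_Dt_Xt he h3
            rw [map_add, h2, zero_add] at h4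
            exact h4
        · exact h2
      rw [map_add, LinearMap.add_apply, key d hd h0, key d' hd' h0']
      decide
  have h2 := hn _ (add_mem hd hd') h1
  exact T.add_eq_zero.1 h2

theorem card_le_four {V : Type*} [AddCommGroup V] [Module (ZMod 2) V] [Finite V] (D : Submodule (ZMod 2) V)
    (a b : V) (h : ∀ d ∈ D, d = 0 ∨ d = a ∨ d = b ∨ d = a + b) : Nat.card D ≤ 4 := by
  classical
  have h1 : (D : Set V) ⊆ (({0, a, b, a + b} : Finset V) : Set V) := by
    intro d hd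
    rcases h d hd with h2 | h2 | h2 | h2 <;> simp [h2]
  calc Nat.card D = Nat.card (D : Set V) := rfl
    _ ≤ Nat.card ((({0, a, b, a + b} : Finset V) : Set V)) :=
        Nat.card_mono (Finset.finite_toSet _) h1
    _ = ({0, a, b, a + b} : Finset V).card := by simp
    _ ≤ 4 := by
        refine (Finset.card_insert_le _ _).trans ?_
        refine Nat.succ_le_succ ((Finset.card_insert_le _ _).trans ?_)
        refine Nat.succ_le_succ ((Finset.card_insert_le _ _).trans ?_)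
        simp

theorem card_le_two' {V : Type*} [AddCommGroup V] [Module (ZMod 2) V] [Finite V] (D : Submodule (ZMod 2) V)
    (a : V) (h : ∀ d ∈ D, d = 0 ∨ d = a) : Nat.card D ≤ 2 := by
  classical
  have h1 : (D : Set V) ⊆ (({0, a} : Finset V) : Set V) := by
    intro d hd
    rcases h d hd with h2 | h2 <;> simp [h2]
  calc Nat.card D = Nat.card (D : Set V) := rfl
    _ ≤ Nat.card ((({0, a} : Finset V) : Set V)) := Nat.card_mono (Finset.finite_toSet _) h1
    _ = ({0, a} : Finset V).card := by simp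
    _ ≤ 2 := Finset.card_le_two

/-- `|D~| ≤ 2` if `D~ ∩ W = 0` -/
theorem card_Dt_le_two [Finite G] (T : Two Qr Qs r s P) (hn : ∀ δ ∈ T.Dt, δ ∈ T.W → δ = 0) :
    Nat.card T.Dt ≤ 2 := by
  by_cases h : ∀ d ∈ T.Dt, d = 0
  · exact card_le_two' T.Dt 0 (fun d hd => Or.inl (h d hd))
  · push Not at h
    obtain ⟨a, ha, ha0⟩ := h
    refine card_le_two' T.Dt a (fun d hd => ?_)
    by_cases hd0 : d = 0
    · exact Or.inl hd0
    · exact Or.inr (Dt_eq_of T hn hd ha hd0 ha0)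

/-- **(3)**: `|D~| ≤ 4` -/
theorem card_Dt_le [Finite G] (T : Two Qr Qs r s P) : Nat.card T.Dt ≤ 4 := by
  by_cases hn : ∀ δ ∈ T.Dt, δ ∈ T.W → δ = 0
  · exact (card_Dt_le_two T hn).trans (by norm_num)
  · push Not at hn
    obtain ⟨a, ha, haW, ha0⟩ := hn
    have hW := Dt_le_W T ha haW ha0
    by_cases h : ∀ d ∈ T.Dt, d = 0 ∨ d = a
    · exact (card_le_two' T.Dt a h).trans (by norm_num)
    · push Not at h
      obtain ⟨b, hb, hb0, hba⟩ := h
      refine card_le_four T.Dt a b (fun d hd => ?_)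
      by_contra hcon
      push Not at hcon
      obtain ⟨h1, h2, h3, h4⟩ := hcon
      obtain ⟨u, hu⟩ := T.mem_W.1 (hW ha)
      obtain ⟨w, hw⟩ := T.mem_W.1 (hW hb)
      obtain ⟨x, hx⟩ := T.mem_W.1 (hW hd)
      obtain ⟨y, hy⟩ := T.mem_W.1 (hW (add_mem hb hd))
      have e1 := T.b_one ha hb hu hw ha0 hb0 (Ne.symm hba)
      have e2 := T.b_one ha hd hu hx ha0 h1 (Ne.symm h2)
      have h5 : b + d ≠ 0 := fun e => h3 (T.add_eq_zero.1 e).symm
      have h6 : a ≠ b + d := by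
        intro e
        apply h4
        rw [e, add_comm b d, add_assoc, T.add_eq_zero.2 rfl, add_zero]
      have e3 := T.b_one ha (add_mem hb hd) hu hy ha0 h5 h6
      rw [map_add, e1, e2] at e3
      exact absurd e3 (by decide)

/-- `|Qr ∩ Qs| ≤ 4` -/
theorem card_le [Finite G] (T : Two Qr Qs r s P) : Nat.card (Qr ⊓ Qs : Subgroup G) ≤ 4 := by
  refine le_trans ?_ (card_Dt_le T)
  have f : ∀ x : (Qr ⊓ Qs : Subgroup G), T.lr.pr ⟨x, x.2.1⟩ ∈ T.Dt := fun x => ⟨⟨x, x.2.1⟩, x.2.2, rfl⟩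
  refine Nat.card_le_card_of_injective (fun x => (⟨T.lr.pr ⟨x, x.2.1⟩, f x⟩ : T.Dt)) ?_
  intro x y hxy
  have h1 : T.lr.pr ⟨x, x.2.1⟩ = T.lr.pr ⟨y, y.2.1⟩ := congrArg Subtype.val hxy
  rcases T.lr.pr_eq_pr.1 h1 with h2 | h2
  · exact Subtype.ext h2
  · exfalso
    apply T.hr
    have h3 : (x : G) = y * r := h2
    have h4 : r = (y : G)⁻¹ * x := by rw [h3, inv_mul_cancel_left]
    rw [h4]
    exact mul_mem (inv_mem y.2.2) x.2.2

end Cfsg.Agent.LargeExtra.CC.Dt
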