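import Cfsg.Agent.LargeExtra.CC.Basic

/-!
# LEMMA CC of helper990 in Lean (helper71)

`Two.main`: `dim [V_r, s] = 2` or `dim [V_s, r] ≥ w - 2` (`|V_s| ≤ 16 |[V_s, r]|²`).
-/

set_option autoImplicit false

namespace Cfsg.Agent.LargeExtra.CC

open Cfsg.Agent.Co2Type.Quad Cfsg.Agent.LargeExtra.Base Cfsg.Agent.LargeExtra.Local
open Cfsg.Agent.LargeExtra.KillSiegel

section lin

/-- a subspace of index at most 2 -/
theorem card_le_two {V : Type*} [AddCommGroup V] [Module (ZMod 2) V] [Finite V]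
    {A B : Submodule (ZMod 2) V}
    (h : ∀ v ∈ B, ∀ w ∈ B, v ∉ A → w ∉ A → v + w ∈ A) : Nat.card B ≤ 2 * Nat.card A := by
  classical
  by_cases hex : ∃ b ∈ B, b ∉ A
  · obtain ⟨b, hb, hbA⟩ := hex
    have e : 2 * Nat.card A = Nat.card (A × Bool) := by
      rw [Nat.card_prod, Nat.card_eq_fintype_card (α := Bool), Fintype.card_bool, mul_comm]
    rw [e]
    refine Nat.card_le_card_of_injective (fun v : B => if hv : (v : V) ∈ A then
      ((⟨v, hv⟩ : A), false) else ((⟨v + b, h v v.2 b hb hv hbA⟩ : A), true)) ?_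
    intro v w hvw
    simp only at hvw
    split_ifs at hvw with h1 h2 h2
    · exact Subtype.ext (congrArg (fun p : A × Bool => (p.1 : V)) hvw)
    · exact absurd (congrArg Prod.snd hvw) (by simp)
    · exact absurd (congrArg Prod.snd hvw) (by simp)
    · have := congrArg (fun p : A × Bool => (p.1 : V)) hvw
      exact Subtype.ext (add_right_cancel this)
  · push Not at hex
    have hle : B ≤ A := hex
    calc Nat.card B ≤ Nat.card A := Nat.card_le_card_of_injective _ (Submodule.inclusion_injective hle)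
      _ ≤ 2 * Nat.card A := by omega

variable {G : Type*} [Group G] [Finite G] {Q : Subgroup G} {z : G}

theorem exists_mate (h : Large Q z) {S : Submodule (ZMod 2) h.V} {x : h.V} (hx : x ∉ S) :
    ∃ y, (∀ s ∈ S, h.b s y = 0) ∧ h.b x y = 1 := by
  by_contra hcon
  push Not at hcon
  apply hx
  apply Perp.mem_of_perp h
  intro w hw
  rw [h.b_comm]
  rcases zmod2 (h.b x w) with h1 | h1
  · exact h1
  · exact absurd h1 (hcon w hw)

end lin

namespace Two

variable {G : Type*} [Group G] {Qr Qs : Subgroup G} {r s : G} {P : G → Prop}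

/-- the bound from a totally isotropic subspace of index at most 2 of `C_{Qs}(r) / ⟨s⟩` -/
theorem bound [Finite G] (T : Two Qr Qs r s P) {S : Submodule (ZMod 2) T.symm.lr.V}
    (hidx : ∀ v ∈ T.symm.Xt, ∀ w ∈ T.symm.Xt, v ∉ S → w ∉ S → v + w ∈ S)
    (hti : ∀ v ∈ S, ∀ w ∈ S, T.symm.lr.b v w = 0) :
    Nat.card T.symm.lr.V ≤ 16 * (Nat.card T.symm.W * Nat.card T.symm.W) := by
  have h1 : Nat.card T.symm.Xt ≤ 2 * Nat.card S := card_le_two hidx
  have h2 : Nat.card T.symm.F ≤ 2 * Nat.card T.symm.Xt :=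
    card_le_two (fun v hv w hw => T.symm.add_mem_Xt hv hw)
  have h3 := T.symm.card_W_F
  have h4 := Perp.card_sq_le T.symm.lr S hti
  have h5 : Nat.card T.symm.F ≤ 4 * Nat.card S := by omega
  set v := Nat.card T.symm.lr.V
  set f := Nat.card T.symm.F
  set w := Nat.card T.symm.W
  set c := Nat.card S
  have hv : 0 < v := Nat.card_pos
  have h6 : v * v ≤ (16 * (w * w)) * v := by
    calc v * v = (f * f) * (w * w) := by rw [← h3]; ring
      _ ≤ ((4 * c) * (4 * c)) * (w * w) := Nat.mul_le_mul_right _ (Nat.mul_le_mul h5 h5)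
      _ = 16 * (w * w) * (c * c) := by ring
      _ ≤ 16 * (w * w) * v := Nat.mul_le_mul_left _ h4
  exact Nat.le_of_mul_le_mul_right h6 hv

/-- (4) `q = 0` on `W`, `X_s` not abelian: `[D̃^⊥, h] ≤ D̃` -/
theorem perp_mem_Dt [Finite G] (T : Two Qr Qs r s P) (hq : ∀ w ∈ T.W, T.lr.q w = 0) {y y' : G}
    (hy : y ∈ Qs) (hy' : y' ∈ Qs) (hyr : y * r = r * y) (hyr' : y' * r = r * y')
    (hne : y * y' ≠ y' * y) {u : T.lr.V} (hu : ∀ d ∈ T.Dt, T.lr.b u d = 0) :
    T.h u + u ∈ T.Dt := by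
  have hWX : T.W ≤ T.Xt := fun w hw => T.mem_Xt_of_q hw (hq w hw)
  -- `X̃^⊥ ≤ X̃`
  have hX : ∀ e, (∀ v ∈ T.Xt, T.lr.b e v = 0) → e ∈ T.Xt := by
    intro e he
    have heF : e ∈ T.F := T.mem_F_of fun w hw => by rw [T.lr.b_comm]; exact he w (hWX hw)
    by_contra hcon
    apply hcon
    apply hWX
    apply T.mem_W_of
    intro v hv
    by_cases hvX : v ∈ T.Xt
    · rw [T.lr.b_comm]; exact he v hvX
    · have h1 := T.add_mem_Xt hv heF hvX hcon
      have h2 := he _ h1
      rw [map_add, T.lr.b_self, add_zero, T.lr.b_comm] at h2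
      exact h2
  have e1 := hX _ (fun v hv => T.ac_perp hy hyr hu hv)
  have e2 := hX _ (fun v hv => T.ac_perp hy' hyr' hu hv)
  have d1 := T.ac_Xt hy' hyr' e1
  have d2 := T.ac_Xt hy hyr e2
  have key := T.ac_ac hy hy' hyr hyr' hne u
  -- `y y' u = y' y (h u)`
  have hfin : T.ac hyr' (T.ac hyr (T.h u + u)) ∈ T.Dt := by
    rw [map_add, map_add, ← key]
    have : T.ac hyr (T.ac hyr' u) + T.ac hyr' (T.ac hyr u) =
        (T.ac hyr (T.ac hyr' u + u) + (T.ac hyr' u + u)) +
        (T.ac hyr' (T.ac hyr u + u) + (T.ac hyr u + u)) := by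
      rw [map_add, map_add]
      have e : (T.ac hyr (T.ac hyr' u) + T.ac hyr u + (T.ac hyr' u + u)) +
        (T.ac hyr' (T.ac hyr u) + T.ac hyr' u + (T.ac hyr u + u)) =
        T.ac hyr (T.ac hyr' u) + T.ac hyr' (T.ac hyr u) +
          ((T.ac hyr u + T.ac hyr u) + (T.ac hyr' u + T.ac hyr' u) + (u + u)) := by abel
      rw [e, T.lr.add_self, T.lr.add_self, T.lr.add_self, zero_add, T.lr.add_self, add_zero]
    rw [this]
    exact T.Dt.add_mem d2 d1
  have g1 : T.ac hyr (T.h u + u) ∈ T.Dt := by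
    have h1 : T.ac hyr' (T.ac hyr (T.h u + u)) = T.ac hyr' (T.ac hyr' (T.ac hyr (T.h u + u))) :=
      (T.ac_Dt hy' hyr' hfin).symm
    rw [(T.ac hyr').injective h1]
    exact hfin
  have g2 : T.ac hyr (T.h u + u) = T.ac hyr (T.ac hyr (T.h u + u)) := (T.ac_Dt hy hyr g1).symm
  rw [(T.ac hyr).injective g2]
  exact g1

/-- Case I -/
theorem caseI [Finite G] (T : Two Qr Qs r s P) (hq : ∀ w ∈ T.W, T.lr.q w = 0) {y y' : G}
    (hy : y ∈ Qs) (hy' : y' ∈ Qs) (hyr : y * r = r * y) (hyr' : y' * r = r * y')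
    (hne : y * y' ≠ y' * y) : Nat.card T.W = 4 := by
  have h4 : ∀ u, (∀ d ∈ T.Dt, T.lr.b u d = 0) → T.h u + u ∈ T.Dt := fun u hu =>
    T.perp_mem_Dt hq hy hy' hyr hyr' hne hu
  obtain ⟨u0, hu0⟩ := T.W_ne
  have hu0' : T.h u0 + u0 ≠ 0 := fun h => hu0 (T.add_eq_zero.1 h)
  -- `(D̃^⊥)^⊥ = D̃`
  have hDD : ∀ w, (∀ u, (∀ d ∈ T.Dt, T.lr.b u d = 0) → T.lr.b u w = 0) → w ∈ T.Dt := by
    intro w hw
    apply Perp.mem_of_perp T.lr
    intro v hv
    exact hw v fun d hd => by rw [T.lr.b_comm]; exact hv d hd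
  -- a nonzero element of `D̃ ∩ W`
  obtain ⟨δ0, hδ0, hδW, hδ00⟩ : ∃ δ0 ∈ T.Dt, δ0 ∈ T.W ∧ δ0 ≠ 0 := by
    by_contra hcon
    push Not at hcon
    have hu : u0 ∈ T.F ⊔ T.lr.b.orthogonal T.Dt := by
      apply Perp.mem_of_perp T.lr
      intro w hw
      have h1 : w ∈ T.W := T.mem_W_of fun v hv => hw v ((le_sup_left : T.F ≤ _) hv)
      have h2 : w ∈ T.Dt := hDD w fun v hv => hw v ((le_sup_right : T.lr.b.orthogonal T.Dt ≤ _)
        ((Perp.mem_perp T.lr _).2 fun d hd => by rw [T.lr.b_comm]; exact hv d hd))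
      rw [hcon w h2 h1, map_zero, LinearMap.zero_apply]
    obtain ⟨c, hc, u', hu', rfl⟩ := Submodule.mem_sup.1 hu
    have h1 : T.h (c + u') + (c + u') = T.h u' + u' := by
      rw [map_add, T.mem_F.1 hc]
      have : c + T.h u' + (c + u') = T.h u' + u' + (c + c) := by abel
      rw [this, T.lr.add_self, add_zero]
    have h2 := h4 u' fun d hd => by
      rw [T.lr.b_comm]; exact (Perp.mem_perp T.lr _).1 hu' d hd
    apply hu0'
    rw [h1]
    exact hcon _ h2 ⟨u', rfl⟩
  obtain ⟨v0, hv0⟩ := hδW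
  -- claim: `b (u, δ0) = 0` implies `h u + u ∈ {0, δ0}`
  have hclaim : ∀ u, T.lr.b u δ0 = 0 → T.h u + u = 0 ∨ T.h u + u = δ0 := by
    intro u hu
    have hin : T.h u + u ∈ T.Dt := by
      by_cases hD : ∀ δ ∈ T.Dt, δ = 0 ∨ δ = δ0
      · apply h4
        intro d hd
        rcases hD d hd with rfl | rfl
        · rw [map_zero]
        · exact hu
      · push Not at hD
        obtain ⟨δ1, hδ1, h10, h11⟩ := hD
        have hle : ∀ u', (∀ d ∈ T.Dt, T.lr.b u' d = 0) → u' ∈ T.F := by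
          intro u' hu'
          by_contra hcon
          have hne : T.h u' + u' ≠ 0 := fun h => hcon (T.add_eq_zero.1 h)
          have hD' := h4 u' hu'
          have hpre : ∀ δ ∈ T.Dt, δ ≠ 0 → T.h u' + u' ≠ δ → δ ∈ T.W → False := by
            rintro δ hδ hδ0 hδn ⟨v, hv⟩
            have := T.b_one hD' hδ rfl hv hne hδ0 hδn
            rw [hu' δ hδ] at this
            exact absurd this (by decide)
          have hDW : T.Dt ≤ T.W := by
            intro δ hδ
            apply T.mem_W_of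
            intro v hv
            rw [T.lr.b_comm]
            exact T.b_Dt_Xt hδ (T.F_le_Xt hδ0 ⟨v0, hv0⟩ hδ00 hv)
          by_cases he : T.h u' + u' = δ0
          · exact hpre δ1 hδ1 h10 (fun h => h11 (h.symm.trans he)) (hDW hδ1)
          · exact hpre δ0 hδ0 hδ00 he (hDW hδ0)
        apply hDD
        intro u' hu'
        rw [T.lr.b_comm]
        exact T.b_W_F ⟨u, rfl⟩ (hle u' hu')
    by_contra hcon
    push Not at hcon
    have := T.b_one hin hδ0 rfl hv0 hcon.1 hδ00 hcon.2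
    rw [hu] at this
    exact absurd this (by decide)
  -- `|W| ≤ 4`
  have hle : Nat.card T.W ≤ 4 := by
    have h1 : Nat.card T.W ≤ 2 * Nat.card (Submodule.span (ZMod 2) ({δ0} : Set T.lr.V)) := by
      apply card_le_two
      rintro _ ⟨u, rfl⟩ _ ⟨u', rfl⟩ hu hu'
      have key : ∀ u, T.h u + u ∉ Submodule.span (ZMod 2) ({δ0} : Set T.lr.V) → T.lr.b u δ0 = 1 := by
        intro u hu
        rcases zmod2 (T.lr.b u δ0) with h1 | h1
        · exfalso
          apply hu
          rcases hclaim u h1 with h2 | h2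
          · rw [h2]; exact Submodule.zero_mem _
          · rw [h2]; exact Submodule.mem_span_singleton_self δ0
        · exact h1
      have h2 : T.lr.b (u + u') δ0 = 0 := by
        rw [map_add, LinearMap.add_apply, key u hu, key u' hu']; decide
      have h3 : T.h u + u + (T.h u' + u') = T.h (u + u') + (u + u') := by rw [map_add]; abel
      rw [h3]
      rcases hclaim _ h2 with h4 | h4
      · rw [h4]; exact Submodule.zero_mem _
      · rw [h4]; exact Submodule.mem_span_singleton_self δ0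
    have h2 : Nat.card (Submodule.span (ZMod 2) ({δ0} : Set T.lr.V)) ≤ 2 := by
      have : Function.Surjective (fun c : ZMod 2 =>
          (⟨c • δ0, Submodule.mem_span_singleton.2 ⟨c, rfl⟩⟩ :
            Submodule.span (ZMod 2) ({δ0} : Set T.lr.V))) := by
        rintro ⟨y, hy⟩
        obtain ⟨c, rfl⟩ := Submodule.mem_span_singleton.1 hy
        exact ⟨c, rfl⟩
      have := Nat.card_le_card_of_surjective _ this
      rwa [Nat.card_zmod] at this
    omega
  -- `|W| ≥ 3`
  have hge : 2 < Nat.card T.W := by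
    by_contra hcon
    -- `W = {0, w}`
    have hw : ∀ w ∈ T.W, w = 0 ∨ w = T.h u0 + u0 := by
      intro w hw
      by_contra hc
      push Not at hc
      have hinj : Function.Injective (![⟨0, T.W.zero_mem⟩, ⟨T.h u0 + u0, ⟨u0, rfl⟩⟩, ⟨w, hw⟩] :
          Fin 3 → T.W) := by
        intro i j hij
        fin_cases i <;> fin_cases j <;> simp only [Fin.mk_zero, Fin.mk_one, Matrix.cons_val_zero,
          Matrix.cons_val_one, Fin.reduceFinMk, Matrix.cons_val, Subtype.mk.injEq] at hij ⊢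
        · exact absurd (congrArg Subtype.val hij).symm hu0'
        · exact absurd hij.symm hc.1
        · exact absurd (congrArg Subtype.val hij) hu0'
        · exact absurd (congrArg Subtype.val hij).symm hc.2
        · exact absurd hij hc.1
        · exact absurd (congrArg Subtype.val hij) hc.2
      have := Nat.card_le_card_of_injective _ hinj
      rw [Nat.card_eq_fintype_card (α := Fin 3), Fintype.card_fin] at this
      omega
    apply hu0
    apply T.mem_F_of
    intro w hw'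
    rcases hw w hw' with rfl | rfl
    · rw [map_zero, LinearMap.zero_apply]
    · have h1 := hq _ hw'
      rw [T.lr.q_add', T.q_h] at h1
      rw [map_add, LinearMap.add_apply, T.lr.b_self, add_zero]
      have : ∀ a b : ZMod 2, a + a + b = 0 → b = 0 := by decide
      exact this _ _ h1
  have hfd : FiniteDimensional (ZMod 2) T.W := Module.Finite.of_finite
  have hp := Module.natCard_eq_pow_finrank (K := ZMod 2) (V := T.W)
  rw [Nat.card_zmod] at hp
  rw [hp] at hle hge ⊢
  have h1 : Module.finrank (ZMod 2) T.W < 3 := by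
    by_contra hcon
    have : 2 ^ 3 ≤ 2 ^ Module.finrank (ZMod 2) T.W := Nat.pow_le_pow_right (by norm_num) (by omega)
    omega
  interval_cases Module.finrank (ZMod 2) T.W <;> omega

/-- Case II -/
theorem caseII [Finite G] (T : Two Qr Qs r s P) {w0 : T.lr.V} (hw0 : w0 ∈ T.W)
    (hq0 : T.lr.q w0 ≠ 0) :
    Nat.card T.symm.lr.V ≤ 16 * (Nat.card T.symm.W * Nat.card T.symm.W) := by
  have hq1 : T.lr.q w0 = 1 := by
    rcases zmod2 (T.lr.q w0) with h | h
    · exact absurd h hq0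
    · exact h
  have hwX : w0 ∉ T.Xt := fun h => hq0 (T.q_W hw0 h)
  -- `D̃ = 0`
  have hD : ∀ d ∈ T.Dt, d = 0 := by
    intro d hd
    by_contra h0
    have hdF := T.Xt_le_F (T.Dt_le_Xt hd)
    have hdW : d ∈ T.W := by
      apply T.mem_W_of
      intro v hv
      by_cases hvX : v ∈ T.Xt
      · rw [T.lr.b_comm]; exact T.b_Dt_Xt hd hvX
      · have h1 := T.add_mem_Xt hv (T.W_le_F hw0) hvX hwX
        have h2 := T.b_Dt_Xt hd h1
        rw [map_add, T.lr.b_comm d w0, T.b_W_F hw0 hdF, add_zero, T.lr.b_comm] at h2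
        exact h2
    exact hwX (T.F_le_Xt hd hdW h0 (T.W_le_F hw0))
  obtain ⟨t, ht, hwt⟩ := exists_mate T.lr hwX
  have htD : ∀ d ∈ T.Dt, T.lr.b t d = 0 := fun d hd => by rw [hD d hd, map_zero]
  have hbWW : ∀ w ∈ T.W, ∀ w' ∈ T.W, T.lr.b w w' = 0 := fun w hw w' hw' =>
    T.b_W_F hw (T.W_le_F hw')
  -- `ac y` on `X̃`, `W`
  have hacX : ∀ {y : G} (_ : y ∈ Qs) (hyr : y * r = r * y) (v : T.lr.V), v ∈ T.Xt →
      T.ac hyr v = v := by
    intro y hy hyr v hv
    have := hD _ (T.ac_Xt hy hyr hv)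
    exact T.add_eq_zero.1 this
  have hach : ∀ {y : G} (_ : y ∈ Qs) (hyr : y * r = r * y) (v : T.lr.V),
      T.ac hyr (T.h v) = T.h (T.ac hyr v) := by
    intro y hy hyr v
    obtain ⟨x, rfl⟩ := T.lr.pr_surjective v
    rw [T.h_pr, T.ac_pr, T.ac_pr, T.h_pr]
    congr 1
    apply Subtype.ext
    show y * (s * (x : G) * s⁻¹) * y⁻¹ = s * (y * (x : G) * y⁻¹) * s⁻¹
    have hys : y * s = s * y := T.ls.comm_z y hy
    calc y * (s * (x : G) * s⁻¹) * y⁻¹ = (y * s) * x * (y * s)⁻¹ := by group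
      _ = s * (y * (x : G) * y⁻¹) * s⁻¹ := by rw [hys]; group
  have hacW : ∀ {y : G} (_ : y ∈ Qs) (hyr : y * r = r * y) (w : T.lr.V), w ∈ T.W →
      T.ac hyr w ∈ T.W := by
    rintro y hy hyr _ ⟨u, rfl⟩
    refine ⟨T.ac hyr u, ?_⟩
    rw [map_add, hach hy]
  have hacq : ∀ {y : G} (hyr : y * r = r * y) (v : T.lr.V), T.lr.q (T.ac hyr v) = T.lr.q v :=
    fun hyr v => T.lr.q_act _ v
  -- the element `e_y = y t + t` lies in `W`
  have heW : ∀ {y : G} (_ : y ∈ Qs) (hyr : y * r = r * y), T.ac hyr t + t ∈ T.W := by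
    intro y hy hyr
    apply T.mem_W_of
    have hX : ∀ v ∈ T.Xt, T.lr.b v (T.ac hyr t + t) = 0 := fun v hv => by
      rw [T.lr.b_comm]; exact T.ac_perp hy hyr htD hv
    have h0 : T.lr.b w0 (T.ac hyr t + t) = 0 := by
      -- `b (y w0, y t) = b (w0, t)`, `y w0 + w0 ∈ X̃`
      have h1 := T.b_ac hyr w0 t
      have h2 : T.ac hyr w0 + w0 ∈ T.Xt := by
        apply T.mem_Xt_of_q (T.W.add_mem (hacW hy hyr w0 hw0) hw0)
        rw [T.lr.q_add', hacq, hbWW _ (hacW hy hyr w0 hw0) _ hw0, add_zero]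
        exact CharTwo.add_self_eq_zero _
      have h3 := hX _ h2
      have h4 : T.lr.b (T.ac hyr w0 + w0) t = 0 := ht _ h2
      rw [map_add] at h3
      rw [h4, add_zero, map_add, LinearMap.add_apply, h1] at h3
      rw [map_add, add_comm]
      exact h3
    intro v hv
    by_cases hvX : v ∈ T.Xt
    · exact hX v hvX
    · have h1 := hX _ (T.add_mem_Xt hv (T.W_le_F hw0) hvX hwX)
      have h2 : T.lr.b (v + w0) (T.ac hyr t + t) =
          T.lr.b v (T.ac hyr t + t) + T.lr.b w0 (T.ac hyr t + t) := by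
        rw [map_add T.lr.b, LinearMap.add_apply]
      rw [h2, h0, add_zero] at h1
      exact h1
  have hmul : ∀ {y y' : G} (hy : y ∈ Qs) (hyr : y * r = r * y) (hy' : y' ∈ Qs)
      (hyr' : y' * r = r * y') (h : y * y' * r = r * (y * y')),
      T.lr.q (T.ac h t + t) = T.lr.q (T.ac hyr t + t) + T.lr.q (T.ac hyr' t + t) := by
    intro y y' hy hyr hy' hyr' h
    have e : T.ac h t + t = (T.ac hyr t + t) + T.ac hyr (T.ac hyr' t + t) := by
      rw [T.ac_mul hyr hyr' h, map_add]
      have : T.ac hyr t + t + (T.ac hyr (T.ac hyr' t) + T.ac hyr t) =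
        T.ac hyr (T.ac hyr' t) + t + (T.ac hyr t + T.ac hyr t) := by abel
      rw [this, T.lr.add_self, add_zero]
    rw [e, T.lr.q_add', hacq, hbWW _ (heW hy hyr) _ (hacW hy hyr _ (heW hy' hyr')), add_zero]
  let S : Submodule (ZMod 2) T.symm.lr.V :=
    { carrier := {v | ∃ (y : Qs) (hy : (y : G) * r = r * y), T.lr.q (T.ac hy t + t) = 0 ∧
        T.symm.lr.pr y = v}
      zero_mem' := by
        refine ⟨1, by simp, ?_, T.symm.lr.pr_one⟩
        have e : T.ac (y := ((1 : Qs) : G)) (by simp) t = t := by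
          obtain ⟨x, rfl⟩ := T.lr.pr_surjective t
          rw [T.ac_pr]
          congr 1
          apply Subtype.ext
          simp
        rw [e, T.lr.add_self, T.lr.q_zero]
      add_mem' := by
        rintro _ _ ⟨y, hy, hq, rfl⟩ ⟨y', hy', hq', rfl⟩
        refine ⟨y * y', ?_, ?_, T.symm.lr.pr_mul y y'⟩
        · show (y : G) * y' * r = r * (y * y')
          rw [mul_assoc, hy', ← mul_assoc, hy, mul_assoc]
        · rw [hmul y.2 hy y'.2 hy', hq, hq', add_zero]
      smul_mem' := by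
        rintro c v hv
        rcases zmod2 c with rfl | rfl
        · rw [zero_smul]
          refine ⟨1, by simp, ?_, T.symm.lr.pr_one⟩
          have e : T.ac (y := ((1 : Qs) : G)) (by simp) t = t := by
            obtain ⟨x, rfl⟩ := T.lr.pr_surjective t
            rw [T.ac_pr]
            congr 1
            apply Subtype.ext
            simp
          rw [e, T.lr.add_self, T.lr.q_zero]
        · rw [one_smul]; exact hv }
  apply T.bound (S := S)
  · intro v hv w hw hvS hwS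
    obtain ⟨y, rfl⟩ := T.symm.lr.pr_surjective v
    obtain ⟨y', rfl⟩ := T.symm.lr.pr_surjective w
    rw [T.symm.pr_mem_Xt] at hv hw
    have key : ∀ (y : Qs) (hy : (y : G) * r = r * y), T.symm.lr.pr y ∉ S →
        T.lr.q (T.ac hy t + t) = 1 := by
      intro y hy hS
      rcases zmod2 (T.lr.q (T.ac hy t + t)) with h | h
      · exact absurd ⟨y, hy, h, rfl⟩ hS
      · exact h
    have hyy : (y : G) * y' * r = r * (y * y') := by
      rw [mul_assoc, hw, ← mul_assoc, hv, mul_assoc]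
    refine ⟨y * y', hyy, ?_, T.symm.lr.pr_mul y y'⟩
    rw [hmul y.2 hv y'.2 hw, key y hv hvS, key y' hw hwS]
    decide
  · rintro _ ⟨y, hy, hq, rfl⟩ _ ⟨y', hy', hq', rfl⟩
    rw [T.symm.lr.b_pr]
    by_contra hne
    have key := T.ac_ac y.2 y'.2 hy hy' hne t
    have e1 : T.ac hy (T.ac hy' t) = T.ac hy' (T.ac hy t) := by
      have h1 : T.ac hy' t + t ∈ T.Xt := T.mem_Xt_of_q (heW y'.2 hy') hq'
      have h2 : T.ac hy t + t ∈ T.Xt := T.mem_Xt_of_q (heW y.2 hy) hq
      have h3 := hacX y.2 hy _ h1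
      have h4 := hacX y'.2 hy' _ h2
      rw [map_add] at h3 h4
      have h5 : T.ac hy (T.ac hy' t) = T.ac hy' t + t + T.ac hy t := by
        rw [← h3, add_assoc, T.lr.add_self, add_zero]
      have h6 : T.ac hy' (T.ac hy t) = T.ac hy t + t + T.ac hy' t := by
        rw [← h4, add_assoc, T.lr.add_self, add_zero]
      rw [h5, h6]
      abel
    rw [e1] at key
    have h7 := (T.ac hy).injective ((T.ac hy').injective key)
    have h8 : t ∈ T.F := T.mem_F.2 h7.symm
    have h9 := T.b_W_F hw0 h8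
    rw [hwt] at h9
    exact absurd h9 (by decide)

/-- **LEMMA CC.** -/
theorem main [Finite G] (T : Two Qr Qs r s P) : Nat.card T.W = 4 ∨
    Nat.card T.symm.lr.V ≤ 16 * (Nat.card T.symm.W * Nat.card T.symm.W) := by
  by_cases hq : ∀ w ∈ T.W, T.lr.q w = 0
  · by_cases hab : ∀ y ∈ Qs, ∀ y' ∈ Qs, y * r = r * y → y' * r = r * y' → y * y' = y' * y
    · right
      apply T.bound (S := T.symm.Xt)
      · intro v hv w _ hv' _
        exact absurd hv hv'
      · intro v hv w hw
        obtain ⟨y, rfl⟩ := T.symm.lr.pr_surjective v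
        obtain ⟨y', rfl⟩ := T.symm.lr.pr_surjective w
        rw [T.symm.pr_mem_Xt] at hv hw
        rw [T.symm.lr.b_pr]
        exact hab y y.2 y' y'.2 hv hw
    · left
      push Not at hab
      obtain ⟨y, hy, y', hy', hyr, hyr', hne⟩ := hab
      exact T.caseI hq hy hy' hyr hyr' hne
  · right
    push Not at hq
    obtain ⟨w0, hw0, hq0⟩ := hq
    exact T.caseII hw0 hq0

end Two

end Cfsg.Agent.LargeExtra.CC
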